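import Mathlib
import Cfsg.Prelude.Def_CaseTheorems
import Cfsg.Prelude.Def_OddOrderLocal
import Cfsg.Agent.Lib.SectRank.Basic
import Cfsg.Agent.Lib.Core.Nilpotent
import Cfsg.Agent.Lib.Puig.Basic

/-!
A 2-group of sectional rank at most two is metacyclic (Blackburn).
-/

set_option autoImplicit false
open scoped commutatorElement

namespace Cfsg.Agent.Lib.SectRank

universe u

/-- The sectional rank does not grow in quotients. -/
theorem sectionalPRankLE_quotient {G : Type u} [Group G] {p k : ℕ}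
    (hr : Cfsg.SectionalPRankLE p k G) (M : Subgroup G) [M.Normal] :
    Cfsg.SectionalPRankLE p k (G ⧸ M) :=
  sectionalPRankLE_of_forall fun N H h => by
    set q := QuotientGroup.mk' M
    have hs : IsElemSection p (N.comap q) (H.comap q) := by
      refine ⟨Subgroup.comap_mono h.le, fun a ha b hb => ?_, fun a ha => ?_⟩
      · rw [Subgroup.mem_comap]; simpa using h.comm (q a) ha (q b) hb
      · rw [Subgroup.mem_comap]; simpa using h.pow (q a) ha
    have := hs.relIndex_le hr
    rwa [Subgroup.relIndex_comap,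
      Subgroup.map_comap_eq_self_of_surjective (QuotientGroup.mk'_surjective M)] at this

/-- A quotient is cyclic when every element is congruent to a power of one element. -/
theorem isCyclic_quotient {G : Type u} [Group G] (A : Subgroup G) [A.Normal] (b : G)
    (h : ∀ g : G, ∃ k : ℤ, (b ^ k)⁻¹ * g ∈ A) : IsCyclic (G ⧸ A) := by
  refine ⟨⟨(b : G ⧸ A), fun z => ?_⟩⟩
  obtain ⟨g, rfl⟩ := QuotientGroup.mk_surjective z
  obtain ⟨k, hk⟩ := h g
  refine ⟨k, ?_⟩
  show (b : G ⧸ A) ^ k = (g : G ⧸ A)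
  rw [← QuotientGroup.mk_zpow, QuotientGroup.eq]
  exact hk

theorem exists_pair_of_rank_le_two {S : Type u} [Group S] [Finite S] (h2 : IsPGroup 2 S)
    (hr : Cfsg.SectionalPRankLE 2 2 S) : ∃ a b : S, Subgroup.closure {a, b} = ⊤ := by
  classical
  haveI : Fact (Nat.Prime 2) := ⟨Nat.prime_two⟩
  obtain ⟨hc, hp⟩ := Cfsg.Agent.Lib.Nilp.commutator_le_and_pow_mem_frattini h2
  have hs : IsElemSection 2 (frattini S) ⊤ := by
    refine ⟨le_top, fun a _ b _ => hc ?_, fun a _ => hp a⟩
    rw [← commutatorElement_def]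
    exact Subgroup.commutator_mem_commutator (Subgroup.mem_top a) (Subgroup.mem_top b)
  have h4 := hs.relIndex_le hr
  rw [Subgroup.relIndex_top_right] at h4
  obtain ⟨n, hn⟩ := h2.index (frattini S)
  rw [hn] at h4
  have hn2 : n ≤ 2 := (Nat.pow_le_pow_iff_right (by norm_num)).mp h4
  haveI : Fintype S := Fintype.ofFinite S
  obtain ⟨T, -, hT, hTtop⟩ := (Cfsg.Agent.Lib.Nilp.burnside_basis h2 hn).1 Finset.univ (by simp)
  have hsub : ∃ a b : S, (T : Set S) ⊆ {a, b} := by
    rcases (show T.card = 0 ∨ T.card = 1 ∨ T.card = 2 by omega) with h | h | h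
    · exact ⟨1, 1, by simp [Finset.card_eq_zero.mp h]⟩
    · obtain ⟨a, rfl⟩ := Finset.card_eq_one.mp h
      exact ⟨a, a, by simp⟩
    · obtain ⟨a, b, -, rfl⟩ := Finset.card_eq_two.mp h
      exact ⟨a, b, by simp⟩
  obtain ⟨a, b, hab⟩ := hsub
  exact ⟨a, b, top_le_iff.mp (hTtop ▸ Subgroup.closure_mono hab)⟩

/-- In a closure of two elements, a normal subgroup containing the first has cyclic quotient. -/
theorem isCyclic_quotient_of_closure {G : Type u} [Group G] {a b : G}
    (hab : Subgroup.closure {a, b} = ⊤) (A : Subgroup G) [A.Normal] (ha : a ∈ A) :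
    IsCyclic (G ⧸ A) := by
  refine isCyclic_quotient A b fun g => ?_
  have hle : Subgroup.closure {a, b} ≤
      (Subgroup.zpowers (QuotientGroup.mk' A b)).comap (QuotientGroup.mk' A) := by
    rw [Subgroup.closure_le]
    rintro x (rfl | rfl)
    · simp only [SetLike.mem_coe, Subgroup.mem_comap, QuotientGroup.mk'_apply]
      rw [(QuotientGroup.eq_one_iff x).mpr ha]; exact one_mem _
    · exact Subgroup.mem_zpowers _
  rw [hab] at hle
  obtain ⟨k, hk⟩ := hle (Subgroup.mem_top g)
  refine ⟨k, ?_⟩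
  rw [← QuotientGroup.eq, QuotientGroup.mk_zpow]
  exact hk

section Minimal

variable {G : Type u} [Group G] [Finite G] {n : G}

theorem mem_zpowers_iff_of_sq (h2 : orderOf n = 2) {x : G} :
    x ∈ Subgroup.zpowers n ↔ x = 1 ∨ x = n := by
  constructor
  · intro hx
    obtain ⟨k, hk⟩ := mem_powers_iff_mem_zpowers.mpr hx
    have hk' : n ^ (k % 2) = x := by
      have := pow_mod_orderOf n k
      rw [h2] at this
      exact this.trans hk
    rcases Nat.mod_two_eq_zero_or_one k with h | h <;> rw [h] at hk' <;> simp [← hk']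
  · rintro (rfl | rfl)
    · exact one_mem _
    · exact Subgroup.mem_zpowers _

/-- The case of a derived subgroup of order two, with adapted generators. -/
theorem metacyclic_minimal (h2G : IsPGroup 2 G) (hr : Cfsg.SectionalPRankLE 2 2 G)
    (hn : orderOf n = 2) (hnz : n ∈ Subgroup.center G)
    (hcomm : ∀ g h : G, ⁅g, h⁆ ∈ Subgroup.zpowers n) (x y : G)
    (hxy : Subgroup.closure {x, y} = ⊤) (hnab : x * y ≠ y * x) (α β : ℕ)
    (hx : x ^ (2 ^ α) ∈ Subgroup.zpowers n) (hy : y ^ (2 ^ β) ∈ Subgroup.zpowers n)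
    (hind : ∀ i j : ℕ, x ^ i * y ^ j ∈ Subgroup.zpowers n → 2 ^ α ∣ i ∧ 2 ^ β ∣ j)
    (hle : β ≤ α) :
    Cfsg.IsMetacyclic G := by
  classical
  set N := Subgroup.zpowers n
  have hnorm : ∀ K : Subgroup G, n ∈ K → K.Normal := fun K hK => ⟨fun k hk g => by
    have : ⁅g, k⁆ ∈ K := (Subgroup.zpowers_le.mpr hK) (hcomm g k)
    simpa [commutatorElement_def] using K.mul_mem this hk⟩
  have hnc : ∀ g : G, Commute n g := fun g => (Subgroup.mem_center_iff.mp hnz g).symm
  have hn2 : n * n = 1 := by rw [← sq, ← hn, pow_orderOf_eq_one]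
  have hyx : y * x = x * y * n := by
    rcases (mem_zpowers_iff_of_sq hn).mp (hcomm y x) with h | h
    · exact absurd (commutatorElement_eq_one_iff_commute.mp h).eq.symm hnab
    · rw [commutatorElement_def, mul_inv_eq_iff_eq_mul, mul_inv_eq_iff_eq_mul] at h
      rw [h, mul_assoc, (hnc (x * y)).eq]
  have hne1 : n ≠ 1 := fun e => by simp [e] at hn
  have hxc : ∀ m : ℕ, Commute (x ^ (2 * m)) y := by
    intro m
    rw [pow_mul]
    apply Commute.pow_left
    show x ^ 2 * y = y * x ^ 2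
    rw [sq]
    calc x * x * y = x * (x * y * n) * n := by
          simp only [mul_assoc]; rw [hn2, mul_one]
      _ = x * (y * x) * n := by rw [← hyx]
      _ = (x * y * n) * x := by simp only [mul_assoc]; rw [(hnc x).eq]
      _ = y * (x * x) := by rw [← hyx, mul_assoc]
  -- the two metacyclic cases
  rcases (mem_zpowers_iff_of_sq hn).mp hx with hx1 | hx1
  swap
  · refine ⟨Subgroup.zpowers x, hnorm _ (hx1 ▸ pow_mem (Subgroup.mem_zpowers x) _), inferInstance, ?_⟩
    haveI := hnorm (Subgroup.zpowers x) (hx1 ▸ pow_mem (Subgroup.mem_zpowers x) _)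
    exact isCyclic_quotient_of_closure hxy _ (Subgroup.mem_zpowers x)
  rcases (mem_zpowers_iff_of_sq hn).mp hy with hy1 | hy1
  swap
  · refine ⟨Subgroup.zpowers y, hnorm _ (hy1 ▸ pow_mem (Subgroup.mem_zpowers y) _), inferInstance, ?_⟩
    haveI := hnorm (Subgroup.zpowers y) (hy1 ▸ pow_mem (Subgroup.mem_zpowers y) _)
    exact isCyclic_quotient_of_closure (by rwa [Set.pair_comm]) _ (Subgroup.mem_zpowers y)
  have hβ : 1 ≤ β := by
    by_contra h
    simp only [show β = 0 by omega, pow_zero, pow_one] at hy1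
    exact hnab (by rw [hy1]; simp)
  have hα : 1 ≤ α := le_trans hβ hle
  rcases (show α = 1 ∨ 2 ≤ α by omega) with rfl | hα2
  · -- two involutions: dihedral
    have hb1 : β = 1 := le_antisymm hle hβ
    subst hb1
    rw [pow_one, sq] at hx1 hy1
    have hsq : (x * y) ^ 2 = n := by
      calc (x * y) ^ 2 = x * (y * x) * y := by rw [sq]; group
        _ = x * (x * y * n) * y := by rw [hyx]
        _ = x * x * (y * y) * n := by simp only [mul_assoc]; rw [(hnc y).eq]
        _ = n := by rw [hx1, hy1, one_mul, one_mul]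
    have hmem : n ∈ Subgroup.zpowers (x * y) := hsq ▸ pow_mem (Subgroup.mem_zpowers _) _
    refine ⟨Subgroup.zpowers (x * y), hnorm _ hmem, inferInstance, ?_⟩
    haveI := hnorm _ hmem
    have hcl : Subgroup.closure {x * y, x} = ⊤ := by
      rw [eq_top_iff, ← hxy, Subgroup.closure_le]
      rintro z (rfl | rfl)
      · exact Subgroup.subset_closure (by simp)
      · have h2 : x ∈ Subgroup.closure {x * z, x} := Subgroup.subset_closure (by simp)
        have h3 : x * z ∈ Subgroup.closure {x * z, x} := Subgroup.subset_closure (by simp)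
        simpa using mul_mem (inv_mem h2) h3
    exact isCyclic_quotient_of_closure hcl _ (Subgroup.mem_zpowers _)
  · -- an elementary abelian subgroup of order eight
    exfalso
    obtain ⟨a', rfl⟩ : ∃ a', α = a' + 2 := ⟨α - 2, by omega⟩
    obtain ⟨b', rfl⟩ : ∃ b', β = b' + 1 := ⟨β - 1, by omega⟩
    set u := x ^ (2 ^ (a' + 1)) with hu
    set v := y ^ (2 ^ b') with hv
    have hu2 : u * u = 1 := by rw [hu, ← pow_add, ← two_mul, ← pow_succ', hx1]
    have hv2 : v * v = 1 := by rw [hv, ← pow_add, ← two_mul, ← pow_succ', hy1]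
    have hord : ∀ z : G, z * z = 1 → z ≠ 1 → orderOf z = 2 := fun z h h1 =>
      orderOf_eq_prime (by rw [sq, h]) h1
    have huv : Commute u v := by
      rw [hu, hv, pow_succ' 2 a']
      exact (hxc _).pow_right _
    have hlt : ∀ k : ℕ, ¬ 2 ^ (k + 1) ∣ 2 ^ k := fun k h => by
      have := (Nat.pow_dvd_pow_iff_le_right (by norm_num : 1 < 2)).mp h; omega
    have huN : u ∉ N := fun h =>
      hlt _ (hind (2 ^ (a' + 1)) 0 (by simpa using h)).1
    have hvN : v ∉ N := fun h => hlt _ (hind 0 (2 ^ b') (by simpa using h)).2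
    have huvN : u * v ∉ N := fun h => hlt _ (hind _ _ h).2
    have hu1 : u ≠ 1 := fun h => huN (h ▸ one_mem _)
    have hv1 : v ≠ 1 := fun h => hvN (h ▸ one_mem _)
    have hsec : ∀ z : G, z * z = 1 → IsElemSection 2 ⊥ (Subgroup.zpowers z) := by
      intro z hz
      refine ⟨bot_le, fun a ha b hb => ?_, fun a ha => ?_⟩
      · obtain ⟨i, rfl⟩ := Subgroup.mem_zpowers_iff.mp ha
        obtain ⟨j, rfl⟩ := Subgroup.mem_zpowers_iff.mp hb
        rw [Subgroup.mem_bot]; group
      · obtain ⟨i, rfl⟩ := Subgroup.mem_zpowers_iff.mp ha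
        rw [Subgroup.mem_bot, ← zpow_natCast, ← zpow_mul, mul_comm, zpow_mul, Nat.cast_ofNat,
          zpow_two, hz, one_zpow]
    have hc1 : ∀ a ∈ N, ∀ b ∈ Subgroup.zpowers u, a * b = b * a := by
      intro a ha b _
      rcases (mem_zpowers_iff_of_sq hn).mp ha with rfl | rfl
      · simp
      · exact (hnc b).eq
    have hd1 : N ⊓ Subgroup.zpowers u = ⊥ := by
      rw [eq_bot_iff]
      rintro z ⟨h1, h2⟩
      rcases (mem_zpowers_iff_of_sq (hord u hu2 hu1)).mp h2 with rfl | rfl
      · exact one_mem _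
      · exact absurd h1 huN
    have hE : ∀ z ∈ N ⊔ Subgroup.zpowers u, Commute z v ∧ ∃ a ∈ N, z = a ∨ z = a * u := by
      intro z hz
      haveI := hnorm N (Subgroup.mem_zpowers n)
      rw [← SetLike.mem_coe, Subgroup.normal_mul N (Subgroup.zpowers u)] at hz
      obtain ⟨a, ha, b, hb, rfl⟩ := hz
      have hav : Commute a v := by
        rcases (mem_zpowers_iff_of_sq hn).mp ha with rfl | rfl
        · exact Commute.one_left v
        · exact hnc v
      rcases (mem_zpowers_iff_of_sq (hord u hu2 hu1)).mp hb with rfl | rfl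
      · exact ⟨by simpa using hav, a, ha, Or.inl (mul_one a)⟩
      · exact ⟨hav.mul_left huv, a, ha, Or.inr rfl⟩
    have hc2 : ∀ a ∈ N ⊔ Subgroup.zpowers u, ∀ b ∈ Subgroup.zpowers v, a * b = b * a := by
      intro a ha b hb
      rcases (mem_zpowers_iff_of_sq (hord v hv2 hv1)).mp hb with rfl | rfl
      · simp
      · exact (hE a ha).1.eq
    have hd2 : (N ⊔ Subgroup.zpowers u) ⊓ Subgroup.zpowers v = ⊥ := by
      rw [eq_bot_iff]
      rintro z ⟨h1, h2⟩
      rcases (mem_zpowers_iff_of_sq (hord v hv2 hv1)).mp h2 with rfl | rfl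
      · exact one_mem _
      · obtain ⟨-, a, ha, h | h⟩ := hE v h1
        · exact absurd (h ▸ ha) hvN
        · refine absurd ?_ huvN
          rw [h, ← mul_assoc, huv.eq.symm.trans rfl |> fun _ => hc1 a ha u (Subgroup.mem_zpowers u) |>.symm,
            mul_assoc, hu2, mul_one]
          exact ha
    have h8 := (((hsec n hn2).sup (hsec u hu2) hc1).sup (hsec v hv2) hc2).relIndex_le hr
    rw [bot_sup_eq, bot_sup_eq, Subgroup.relIndex_bot_left, card_sup_of_commute hc2 hd2,
      card_sup_of_commute hc1 hd1, Nat.card_zpowers, Nat.card_zpowers, Nat.card_zpowers,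
      hord v hv2 hv1, hord u hu2 hu1, hn] at h8
    omega

/-- The case of a derived subgroup of order two. -/
theorem metacyclic_of_commutator_two (h2G : IsPGroup 2 G) (hr : Cfsg.SectionalPRankLE 2 2 G)
    (hn : orderOf n = 2) (hnz : n ∈ Subgroup.center G)
    (hcomm : ∀ g h : G, ⁅g, h⁆ ∈ Subgroup.zpowers n) (hnab : ∃ g h : G, g * h ≠ h * g) :
    Cfsg.IsMetacyclic G := by
  classical
  haveI : Fact (Nat.Prime 2) := ⟨Nat.prime_two⟩
  haveI hN : (Subgroup.zpowers n).Normal :=
    ⟨fun k hk g => by rwa [show g * k * g⁻¹ = k from by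
      obtain ⟨i, rfl⟩ := Subgroup.mem_zpowers_iff.mp hk
      rw [(Subgroup.mem_center_iff.mp (zpow_mem hnz i) g), mul_inv_cancel_right]]⟩
  set q := QuotientGroup.mk' (Subgroup.zpowers n)
  have hqone : ∀ g : G, q g = 1 ↔ g ∈ Subgroup.zpowers n := fun g => QuotientGroup.eq_one_iff g
  have hqc : ∀ u v : G ⧸ Subgroup.zpowers n, Commute u v := by
    intro u v
    obtain ⟨g, rfl⟩ := QuotientGroup.mk'_surjective _ u
    obtain ⟨h, rfl⟩ := QuotientGroup.mk'_surjective _ v
    rw [← commutatorElement_eq_one_iff_commute, ← map_commutatorElement]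
    exact (hqone _).mpr (hcomm g h)
  obtain ⟨a, b, hab⟩ := exists_pair_of_rank_le_two h2G hr
  obtain ⟨i, hi⟩ := IsPGroup.iff_orderOf.mp (h2G.to_quotient (Subgroup.zpowers n)) (q a)
  obtain ⟨j, hj⟩ := IsPGroup.iff_orderOf.mp (h2G.to_quotient (Subgroup.zpowers n)) (q b)
  wlog hji : j ≤ i generalizing a b i j
  · exact this b a (by rwa [Set.pair_comm]) j hj i hi (by omega)
  set C := Subgroup.zpowers (q a)
  haveI : C.Normal := ⟨fun k hk g => by rwa [(hqc g k).eq, mul_inv_cancel_right]⟩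
  obtain ⟨β, hβj, hβ⟩ := (Nat.dvd_prime_pow Nat.prime_two).mp
    (hj ▸ orderOf_map_dvd (QuotientGroup.mk' C) (q b))
  have hmem : q b ^ 2 ^ β ∈ C := by
    rw [← QuotientGroup.eq_one_iff, ← QuotientGroup.mk'_apply, map_pow, ← hβ, pow_orderOf_eq_one]
  obtain ⟨t, ht⟩ := Subgroup.mem_zpowers_iff.mp hmem
  have hdvd : ((2 : ℤ) ^ β) ∣ t := by
    have h1 : q a ^ (t * (2 : ℤ) ^ (j - β)) = 1 := by
      rw [zpow_mul, ht, ← zpow_natCast (q b) (2 ^ β), ← zpow_mul]
      push_cast
      rw [← pow_add, Nat.add_sub_cancel' hβj]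
      have := pow_orderOf_eq_one (q b)
      rw [hj, ← zpow_natCast] at this
      exact_mod_cast this
    have h2 := orderOf_dvd_iff_zpow_eq_one.mpr h1
    rw [hi] at h2
    push_cast at h2
    have h3 : (2 : ℤ) ^ β * 2 ^ (j - β) ∣ t * 2 ^ (j - β) := by
      rw [← pow_add, Nat.add_sub_cancel' hβj]
      exact (pow_dvd_pow 2 hji).trans h2
    exact (mul_dvd_mul_iff_right (pow_ne_zero _ two_ne_zero)).mp h3
  obtain ⟨s, hs⟩ := hdvd
  set y := a ^ (-s) * b with hy
  have hqy : q y = q a ^ (-s) * q b := by rw [hy, map_mul, map_zpow]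
  have hycl : Subgroup.closure {a, y} = ⊤ := by
    rw [eq_top_iff, ← hab, Subgroup.closure_le]
    rintro z (rfl | rfl)
    · exact Subgroup.subset_closure (by simp)
    · have h1 : a ∈ Subgroup.closure {a, y} := Subgroup.subset_closure (by simp)
      have h2 : y ∈ Subgroup.closure {a, y} := Subgroup.subset_closure (by simp)
      have h3 := mul_mem (zpow_mem h1 s) h2
      rwa [hy, ← mul_assoc, ← zpow_add, add_neg_cancel, zpow_zero, one_mul] at h3
  have hymem : y ^ 2 ^ β ∈ Subgroup.zpowers n := by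
    rw [← hqone, map_pow, hqy, (hqc _ _).mul_pow, ← ht, ← zpow_natCast (q a ^ (-s)), ← zpow_mul,
      ← zpow_add, hs]
    push_cast
    rw [show -s * 2 ^ β + 2 ^ β * s = (0 : ℤ) by ring, zpow_zero]
  have hind : ∀ e f : ℕ, a ^ e * y ^ f ∈ Subgroup.zpowers n → 2 ^ i ∣ e ∧ 2 ^ β ∣ f := by
    intro e f h
    rw [← hqone, map_mul, map_pow, map_pow, hqy] at h
    have hf : 2 ^ β ∣ f := by
      rw [← hβ]
      apply orderOf_dvd_of_pow_eq_one
      have := congrArg (QuotientGroup.mk' C) h
      rw [map_mul, map_pow, map_pow, map_mul, map_zpow] at this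
      have hqa : QuotientGroup.mk' C (q a) = 1 := (QuotientGroup.eq_one_iff _).mpr (Subgroup.mem_zpowers _)
      simpa [hqa] using this
    refine ⟨?_, hf⟩
    obtain ⟨c, rfl⟩ := hf
    have hyone : (q a ^ (-s) * q b) ^ 2 ^ β = 1 := by
      rw [← hqy, ← map_pow]; exact (hqone _).mpr hymem
    rw [pow_mul, hyone, one_pow, mul_one] at h
    rw [← hi]
    exact orderOf_dvd_of_pow_eq_one h
  refine metacyclic_minimal h2G hr hn hnz hcomm a y hycl ?_ i β ?_ hymem hind (le_trans hβj hji)
  · intro hc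
    obtain ⟨g, h, hgh⟩ := hnab
    apply hgh
    have hle : ∀ z ∈ ({a, y} : Set G), ∀ w ∈ ({a, y} : Set G), z * w = w * z := by
      rintro z (rfl | rfl) w (rfl | rfl) <;> first | rfl | exact hc | exact hc.symm
    have hC := Subgroup.isMulCommutative_closure hle
    have := hC.is_comm.comm (⟨g, hycl ▸ Subgroup.mem_top g⟩ : Subgroup.closure {a, y})
      ⟨h, hycl ▸ Subgroup.mem_top h⟩
    exact congrArg Subtype.val this
  · rw [← hqone, map_pow, ← hi, pow_orderOf_eq_one]

end Minimal

/-- A 2-group of sectional rank at most two is metacyclic. -/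
theorem isMetacyclic_of_rank_le_two {S : Type u} [Group S] [Finite S] (h2 : IsPGroup 2 S)
    (hr : Cfsg.SectionalPRankLE 2 2 S) : Cfsg.IsMetacyclic S := by
  classical
  haveI : Fact (Nat.Prime 2) := ⟨Nat.prime_two⟩
  induction hk : Nat.card S using Nat.strong_induction_on generalizing S with
  | _ k ih => ?_
  by_cases hab : ∀ g h : S, g * h = h * g
  · obtain ⟨a, b, hcl⟩ := exists_pair_of_rank_le_two h2 hr
    have hnorm : (Subgroup.zpowers a).Normal :=
      ⟨fun z hz g => by rwa [hab g z, mul_inv_cancel_right]⟩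
    exact ⟨Subgroup.zpowers a, hnorm, inferInstance,
      isCyclic_quotient_of_closure hcl _ (Subgroup.mem_zpowers a)⟩
  push_neg at hab
  obtain ⟨g₀, h₀, hgh⟩ := hab
  have hne : commutator S ≠ ⊥ := fun h => hgh (by
    have := Subgroup.commutator_mem_commutator (H₁ := (⊤ : Subgroup S)) (H₂ := ⊤)
      (Subgroup.mem_top g₀) (Subgroup.mem_top h₀)
    rw [show ⁅(⊤ : Subgroup S), ⊤⁆ = commutator S from rfl, h, Subgroup.mem_bot,
      commutatorElement_eq_one_iff_commute] at this
    exact this.eq)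
  obtain ⟨z, hz, hz1⟩ := Cfsg.Agent.Lib.Puig.exists_mem_center_of_normal h2 (commutator S) hne
  obtain ⟨e, he⟩ := IsPGroup.iff_orderOf.mp h2 z
  obtain ⟨e', rfl⟩ : ∃ e', e = e' + 1 := ⟨e - 1, by
    rcases e with _ | e
    · exact absurd (orderOf_eq_one_iff.mp (by simpa using he)) hz1
    · rfl⟩
  set n := z ^ 2 ^ e' with hn_def
  have hn : orderOf n = 2 := by
    rw [hn_def, orderOf_pow, he, Nat.gcd_eq_right (pow_dvd_pow 2 (Nat.le_succ e')), pow_succ,
      Nat.mul_div_cancel_left _ (by positivity)]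
  have hnc : n ∈ commutator S := pow_mem hz.1 _
  have hnz : n ∈ Subgroup.center S := pow_mem hz.2 _
  have hcn : ∀ g : S, Commute g n := fun g => Subgroup.mem_center_iff.mp hnz g
  haveI hN : (Subgroup.zpowers n).Normal :=
    ⟨fun k hk g => by
      obtain ⟨i, rfl⟩ := Subgroup.mem_zpowers_iff.mp hk
      rwa [((hcn g).zpow_right i).eq, mul_inv_cancel_right]⟩
  set q := QuotientGroup.mk' (Subgroup.zpowers n)
  have hlt : Nat.card (S ⧸ Subgroup.zpowers n) < k := by
    have h1 := (Subgroup.zpowers n).card_mul_index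
    rw [Nat.card_zpowers, hn, Subgroup.index_eq_card, hk] at h1
    have : 0 < Nat.card (S ⧸ Subgroup.zpowers n) := Nat.card_pos
    omega
  obtain ⟨M, hM, hMc, hQc⟩ := ih _ hlt (S := S ⧸ Subgroup.zpowers n) (h2.to_quotient _)
    (sectionalPRankLE_quotient hr _) rfl
  haveI := hM
  obtain ⟨⟨ā, hā⟩, hagen⟩ := hMc.exists_generator
  obtain ⟨a, rfl⟩ := QuotientGroup.mk'_surjective _ ā
  obtain ⟨b', hbgen⟩ := hQc.exists_generator
  obtain ⟨b₁, rfl⟩ := QuotientGroup.mk'_surjective _ b'
  obtain ⟨b, rfl⟩ := QuotientGroup.mk'_surjective _ b₁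
  -- every element is `b ^ k * a ^ i * n ^ j`
  have hA : ∀ x : S, q x ∈ M → ∃ i j : ℤ, x = a ^ i * n ^ j := by
    intro x hx
    obtain ⟨i, hi⟩ := Subgroup.mem_zpowers_iff.mp (hagen ⟨q x, hx⟩)
    have hi' := congrArg Subtype.val hi
    simp only [SubgroupClass.coe_zpow] at hi'
    rw [← map_zpow, QuotientGroup.mk'_apply, QuotientGroup.mk'_apply, QuotientGroup.eq] at hi'
    obtain ⟨j, hj⟩ := Subgroup.mem_zpowers_iff.mp hi'
    exact ⟨i, j, by rw [hj, mul_inv_cancel_left]⟩
  have hdec : ∀ x : S, ∃ t : ℤ, q ((b ^ t)⁻¹ * x) ∈ M := by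
    intro x
    obtain ⟨t, ht⟩ := Subgroup.mem_zpowers_iff.mp (hbgen (QuotientGroup.mk' M (q x)))
    rw [← map_zpow, ← map_zpow] at ht
    have ht := (QuotientGroup.eq (s := M)).mp ht
    refine ⟨t, ?_⟩
    rw [map_mul, map_inv]
    exact ht
  set A := M.comap q
  have hbotq : ∀ j : ℤ, q (n ^ j) = 1 := fun j =>
    (QuotientGroup.eq_one_iff _).mpr (zpow_mem (Subgroup.mem_zpowers n) j)
  by_cases hna : n ∈ Subgroup.zpowers a
  · -- the preimage is cyclic
    have hAeq : A = Subgroup.zpowers a := by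
      refine le_antisymm (fun x hx => ?_) (Subgroup.zpowers_le.mpr hā)
      obtain ⟨i, j, rfl⟩ := hA x hx
      exact mul_mem (zpow_mem (Subgroup.mem_zpowers a) i) (zpow_mem hna j)
    refine ⟨A, hM.comap q, hAeq ▸ inferInstance, isCyclic_quotient A b fun g => ?_⟩
    exact hdec g
  -- otherwise the derived subgroup has order two
  obtain ⟨k₀, e₀, hconj⟩ := hA (b * a * b⁻¹) (by
    rw [map_mul, map_mul, map_inv]; exact hM.conj_mem _ hā _)
  set c := a ^ (k₀ - 1) * n ^ e₀ with hc
  have hca : Commute a c := (Commute.self_zpow a _).mul_right ((hcn a).zpow_right _)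
  have hcc : ∀ i : ℤ, c ^ i = a ^ ((k₀ - 1) * i) * n ^ (e₀ * i) := fun i => by
    rw [hc, (((hcn a).zpow_left _).zpow_right _).mul_zpow, ← zpow_mul, ← zpow_mul]
  have hgenS : Subgroup.closure ({a, b, n} : Set S) = ⊤ := by
    rw [eq_top_iff]
    intro x _
    obtain ⟨t, ht⟩ := hdec x
    obtain ⟨i, j, hij⟩ := hA _ ht
    rw [eq_mul_of_inv_mul_eq hij]
    exact mul_mem (zpow_mem (Subgroup.subset_closure (by simp)) t)
      (mul_mem (zpow_mem (Subgroup.subset_closure (by simp)) i)
        (zpow_mem (Subgroup.subset_closure (by simp)) j))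
  have hcnorm : (Subgroup.zpowers c).Normal := by
    rw [← Subgroup.normalizer_eq_top_iff, eq_top_iff, ← hgenS, Subgroup.closure_le]
    have key : ∀ g : S, g * c * g⁻¹ ∈ Subgroup.zpowers c →
        g ∈ Subgroup.normalizer (Subgroup.zpowers c : Set S) := by
      intro g hg
      rw [Subgroup.mem_normalizer_iff_conj_image_eq]
      have hsub : (Subgroup.zpowers c).map (MulAut.conj g).toMonoidHom ≤ Subgroup.zpowers c := by
        rw [MonoidHom.map_zpowers, Subgroup.zpowers_le]; simpa using hg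
      have heq : (Subgroup.zpowers c).map (MulAut.conj g).toMonoidHom = Subgroup.zpowers c :=
        Subgroup.eq_of_le_of_card_ge hsub (le_of_eq
          (Subgroup.card_map_of_injective (MulAut.conj g).injective).symm)
      have := congrArg (fun K : Subgroup S => (K : Set S)) heq
      rw [Subgroup.coe_map] at this
      exact this
    rintro g (rfl | rfl | rfl)
    · refine key _ ?_
      rw [hca.eq, mul_inv_cancel_right]; exact Subgroup.mem_zpowers c
    · refine key _ ?_
      have h1 : g * c * g⁻¹ = (g * a * g⁻¹) ^ (k₀ - 1) * n ^ e₀ := by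
        rw [hc, conj_zpow]
        simp only [mul_assoc]
        rw [((hcn g⁻¹).zpow_right e₀).eq]
      rw [h1, hconj, (((hcn a).zpow_left _).zpow_right _).mul_zpow, ← zpow_mul, ← zpow_mul,
        mul_assoc, ← zpow_add]
      refine ⟨k₀, ?_⟩
      show c ^ k₀ = _
      rw [hcc]
      congr 2 <;> ring
    · refine key _ ?_
      rw [(hcn c).eq.symm, mul_inv_cancel_right]; exact Subgroup.mem_zpowers c
  haveI := hcnorm
  have hcle : commutator S ≤ Subgroup.zpowers c := by
    set r := QuotientGroup.mk' (Subgroup.zpowers c)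
    have hrc : r c = 1 := (QuotientGroup.eq_one_iff c).mpr (Subgroup.mem_zpowers c)
    have hab' : r a * r b = r b * r a := by
      have h2' : b * a = c * (a * b) := by
        calc b * a = a ^ k₀ * n ^ e₀ * b := by rw [← hconj, inv_mul_cancel_right]
          _ = a ^ (k₀ - 1) * n ^ e₀ * a * b := by
            rw [mul_assoc (a ^ (k₀ - 1)), ← ((hcn a).zpow_right e₀).eq, ← mul_assoc,
              ← zpow_add_one, sub_add_cancel]
          _ = _ := by rw [hc, mul_assoc]
      rw [← map_mul, ← map_mul, h2', map_mul r c, hrc, one_mul]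
    have hn' : ∀ g : S, r n * r g = r g * r n := fun g => by
      rw [← map_mul, ← map_mul, (hcn g).eq]
    have hC : IsMulCommutative (Subgroup.closure (r '' ({a, b, n} : Set S))) := by
      refine Subgroup.isMulCommutative_closure ?_
      rintro _ ⟨x, (rfl | rfl | rfl), rfl⟩ _ ⟨y, (rfl | rfl | rfl), rfl⟩ <;>
        first | rfl | exact hab' | exact hab'.symm | exact hn' _ | exact (hn' _).symm
    have htop : Subgroup.closure (r '' ({a, b, n} : Set S)) = ⊤ := by
      rw [← MonoidHom.map_closure, hgenS, Subgroup.map_top_of_surjective _ (QuotientGroup.mk'_surjective _)]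
    rw [← Subgroup.Normal.quotient_commutative_iff_commutator_le]
    refine ⟨⟨fun u v => ?_⟩⟩
    exact congrArg Subtype.val (hC.is_comm.comm (⟨u, htop ▸ Subgroup.mem_top u⟩ :
      Subgroup.closure (r '' ({a, b, n} : Set S))) ⟨v, htop ▸ Subgroup.mem_top v⟩)
  obtain ⟨j, hj⟩ := Subgroup.mem_zpowers_iff.mp (hcle hnc)
  have hj' : a ^ ((k₀ - 1) * j) = n ^ (1 - e₀ * j) := by
    rw [zpow_sub, zpow_one, eq_mul_inv_iff_mul_eq, ← hcc, hj]
  have hn2 : ∀ m : ℤ, Odd m → n ^ m = n := fun m hm => by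
    obtain ⟨l, rfl⟩ := hm
    rw [zpow_add_one, zpow_mul, zpow_two, ← sq, ← hn, pow_orderOf_eq_one, one_zpow, one_mul]
  have hodd : Odd (e₀ * j) := by
    by_contra hev
    rw [Int.not_odd_iff_even] at hev
    have ho : Odd (1 - e₀ * j) := by
      obtain ⟨l, hl⟩ := hev; exact ⟨-l, by omega⟩
    exact hna (hn2 _ ho ▸ hj' ▸ zpow_mem (Subgroup.mem_zpowers a) _)
  rw [Int.odd_mul] at hodd
  have hone : a ^ ((k₀ - 1) * j) = 1 := by
    obtain ⟨l, hl⟩ : Even (1 - e₀ * j) := by
      obtain ⟨l, hl⟩ := hodd.1.mul hodd.2; exact ⟨-l, by omega⟩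
    rw [hj', hl, ← two_mul, zpow_mul, zpow_two, ← sq, ← hn, pow_orderOf_eq_one, one_zpow]
  have hk0 : a ^ (k₀ - 1) = 1 := by
    rw [← orderOf_dvd_iff_zpow_eq_one] at hone ⊢
    obtain ⟨m, hm⟩ := IsPGroup.iff_orderOf.mp h2 a
    rw [hm] at hone ⊢
    push_cast at hone ⊢
    refine (IsCoprime.pow_left ?_).dvd_of_dvd_mul_right hone
    obtain ⟨l, rfl⟩ := hodd.2
    exact ⟨-l, 1, by ring⟩
  have hceq : c = n := by rw [hc, hk0, one_mul, hn2 _ hodd.1]
  refine metacyclic_of_commutator_two h2 hr hn hnz (fun g h => ?_) ⟨g₀, h₀, hgh⟩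
  rw [← hceq]
  exact hcle (Subgroup.commutator_mem_commutator (Subgroup.mem_top g) (Subgroup.mem_top h))

end Cfsg.Agent.Lib.SectRank
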