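import Cfsg.Agent.Lib.SectRank.Basic

/-!
Two normal subgroups with distinct centres of order two in a 2-group of sectional rank at most 4.
-/

set_option autoImplicit false

namespace Cfsg.Agent.Lib.SectRank

variable {S : Type*} [Group S]

/-- The centre of the non-abelian subgroup `P` is `{1, z}`. -/
structure CentreIs (z : S) (P : Subgroup S) : Prop where
  ne_one : z ≠ 1
  mem : z ∈ P
  central : ∀ y : S, (y ∈ P ∧ ∀ a ∈ P, a * y = y * a) ↔ (y = 1 ∨ y = z)
  nonab : ∃ a ∈ P, ∃ b ∈ P, a * b ≠ b * a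

namespace CentreIs

variable {z : S} {P : Subgroup S}

theorem comm (h : CentreIs z P) {a : S} (ha : a ∈ P) : a * z = z * a :=
  ((h.central z).mpr (Or.inr rfl)).2 a ha

theorem eq_of_comm (h : CentreIs z P) {y : S} (hy : y ∈ P) (hc : ∀ a ∈ P, a * y = y * a)
    (hy1 : y ≠ 1) : y = z :=
  ((h.central y).mp ⟨hy, hc⟩).resolve_left hy1

theorem map (h : CentreIs z P) {S' : Type*} [Group S'] (e : S ≃* S') :
    CentreIs (e z) (P.map e.toMonoidHom) where
  ne_one := fun h1 => h.ne_one (e.injective (h1.trans (map_one e).symm))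
  mem := ⟨z, h.mem, rfl⟩
  central := by
    intro y
    obtain ⟨y, rfl⟩ := e.surjective y
    rw [e.injective.eq_iff, ← map_one e, e.injective.eq_iff, ← h.central y]
    constructor
    · rintro ⟨hy, hc⟩
      refine ⟨(Subgroup.mem_map_iff_mem e.injective).mp hy, fun a ha => e.injective ?_⟩
      simpa using hc (e a) ⟨a, ha, rfl⟩
    · rintro ⟨hy, hc⟩
      refine ⟨⟨y, hy, rfl⟩, ?_⟩
      rintro _ ⟨a, ha, rfl⟩
      simp only [MulEquiv.coe_toMonoidHom]
      rw [← map_mul, hc a ha, map_mul]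
  nonab := by
    obtain ⟨a, ha, b, hb, hab⟩ := h.nonab
    exact ⟨e a, ⟨a, ha, rfl⟩, e b, ⟨b, hb, rfl⟩, fun h1 => hab (e.injective (by simpa using h1))⟩

theorem conj (h : CentreIs z P) (s : S) :
    CentreIs (s * z * s⁻¹) (P.map (MulAut.conj s).toMonoidHom) := h.map (MulAut.conj s)

/-- The hypotheses as they are usually written. -/
theorem exists_of_card_center (hP : ¬ IsMulCommutative ↥P)
    (hc : Nat.card ↥(Subgroup.center ↥P) = 2) :
    ∃ z : S, CentreIs z P ∧ (Subgroup.center ↥P).map P.subtype = Subgroup.zpowers z := by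
  obtain ⟨x, y, hxy, huniv⟩ := Nat.card_eq_two_iff.mp hc
  have hall : ∀ w : Subgroup.center ↥P, w = x ∨ w = y := fun w => by
    have hw : w ∈ ({x, y} : Set _) := huniv ▸ Set.mem_univ w
    simpa using hw
  obtain ⟨w, hw1, hw⟩ : ∃ w : Subgroup.center ↥P, w ≠ 1 ∧ ∀ v, v = 1 ∨ v = w := by
    rcases hall 1 with h | h
    · exact ⟨y, fun e => hxy (h.symm.trans e.symm), fun v => (hall v).imp (·.trans h.symm) id⟩
    · exact ⟨x, fun e => hxy (e.trans h), fun v => (hall v).symm.imp (·.trans h.symm) id⟩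
  have hz : ∀ v : ↥P, v ∈ Subgroup.center ↥P ↔ ∀ a ∈ P, a * (v : S) = v * a := fun v =>
    ⟨fun hv a ha => congrArg Subtype.val (Subgroup.mem_center_iff.mp hv ⟨a, ha⟩),
      fun hv => Subgroup.mem_center_iff.mpr fun a => Subtype.ext (hv a a.2)⟩
  refine ⟨((w : ↥P) : S), ⟨fun h => hw1 (Subtype.ext (Subtype.ext h)), (w : ↥P).2, fun v => ?_, ?_⟩, ?_⟩
  · constructor
    · rintro ⟨hv, hcv⟩
      rcases hw ⟨⟨v, hv⟩, (hz _).mpr hcv⟩ with h | h
      · exact Or.inl (congrArg (fun t : Subgroup.center ↥P => ((t : ↥P) : S)) h)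
      · exact Or.inr (congrArg (fun t : Subgroup.center ↥P => ((t : ↥P) : S)) h)
    · rintro (rfl | rfl)
      · exact ⟨P.one_mem, by simp⟩
      · exact ⟨(w : ↥P).2, (hz _).mp w.2⟩
  · by_contra hcon
    push Not at hcon
    exact hP ⟨⟨fun a b => Subtype.ext (hcon a a.2 b b.2)⟩⟩
  · apply le_antisymm
    · rintro _ ⟨v, hv, rfl⟩
      rcases hw ⟨v, hv⟩ with h | h
      · have : v = 1 := congrArg Subtype.val h
        rw [this, map_one]; exact Subgroup.one_mem _
      · have : v = (w : ↥P) := congrArg Subtype.val h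
        rw [this]; exact Subgroup.mem_zpowers _
    · rw [Subgroup.zpowers_le]
      exact ⟨(w : ↥P), w.2, rfl⟩

theorem not_isCyclic (h : CentreIs z P) : ¬ IsCyclic ↥P := by
  intro hcyc
  obtain ⟨a, ha, b, hb, hab⟩ := h.nonab
  letI := hcyc.commGroup
  exact hab (congrArg Subtype.val (mul_comm (⟨a, ha⟩ : P) ⟨b, hb⟩))

end CentreIs

variable [Finite S]

/-- A nontrivial subgroup normalised by a `2`-group `H` has a nontrivial element centralised by `H`. -/
theorem exists_fixed_of_normalized (h2 : IsPGroup 2 S) {N H : Subgroup S}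
    (hN : ∀ h ∈ H, ∀ n ∈ N, h * n * h⁻¹ ∈ N) (hne : N ≠ ⊥) :
    ∃ n ∈ N, n ≠ 1 ∧ ∀ h ∈ H, h * n = n * h := by
  classical
  haveI := Fact.mk Nat.prime_two
  let act : MulAction H N :=
    { smul := fun h n => ⟨h * n * (h : S)⁻¹, hN h h.2 n n.2⟩
      one_smul := fun n => Subtype.ext (show ((1 : H) : S) * n * ((1 : H) : S)⁻¹ = n by simp)
      mul_smul := fun a b n => Subtype.ext (show ((a * b : H) : S) * n * ((a * b : H) : S)⁻¹ =
        a * ((b : S) * n * (b : S)⁻¹) * (a : S)⁻¹ by simp [mul_assoc]) }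
  obtain ⟨x, -, hx⟩ := SetLike.exists_of_lt (bot_lt_iff_ne_bot.mpr hne)
  have hdvd : 2 ∣ Nat.card N := by
    obtain ⟨k, hk⟩ := IsPGroup.iff_card.mp (h2.to_subgroup N)
    rcases Nat.eq_zero_or_pos k with rfl | hk0
    · exact absurd (Subgroup.eq_bot_of_card_eq N (by simpa using hk)) hne
    · rw [hk]; exact dvd_pow_self 2 hk0.ne'
  have h1 : (1 : N) ∈ MulAction.fixedPoints H N := fun h => Subtype.ext (by
    show (h : S) * ((1 : N) : S) * (h : S)⁻¹ = ((1 : N) : S)
    simp)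
  obtain ⟨n, hn, hn1⟩ :=
    (h2.to_subgroup H).exists_fixed_point_of_prime_dvd_card_of_fixed_point N hdvd h1
  refine ⟨n, n.2, fun e => hn1 (Subtype.ext e.symm), fun h hh => ?_⟩
  have := congrArg Subtype.val (hn ⟨h, hh⟩)
  exact mul_inv_eq_iff_eq_mul.mp this

/-- The centre of a subgroup with centre of order two lies in its Frattini subgroup. -/
theorem CentreIs.mem_frattini (h2 : IsPGroup 2 S) {z : S} {P : Subgroup S} (h : CentreIs z P) :
    z ∈ (frattini ↥P).map P.subtype := by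
  haveI := Fact.mk Nat.prime_two
  have hsec := frattini_elemSection (p := 2) (h2.to_subgroup P)
  have hne : (frattini ↥P).map P.subtype ≠ ⊥ := by
    intro hbot
    obtain ⟨a, ha, b, hb, hab⟩ := h.nonab
    have := hsec.comm a ha b hb
    rw [hbot, Subgroup.mem_bot, mul_inv_eq_one, mul_inv_eq_iff_eq_mul] at this
    exact hab this
  obtain ⟨n, hn, hn1, hnc⟩ := exists_fixed_of_normalized h2 (H := P)
    (fun a ha n hn => hsec.conj_mem ha hn) hne
  rwa [← h.eq_of_comm (hsec.le hn) hnc hn1]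

theorem two_pow_two_le_relIndex_frattini (h2 : IsPGroup 2 S) {z : S} {P : Subgroup S}
    (h : CentreIs z P) : 2 ^ 2 ≤ ((frattini ↥P).map P.subtype).relIndex P := by
  haveI := Fact.mk Nat.prime_two
  rw [Subgroup.relIndex, Subgroup.subgroupOf, Subgroup.comap_map_eq_self_of_injective P.subtype_injective]
  exact sq_le_index_frattini (h2.to_subgroup P) h.not_isCyclic

section Pair

variable {P Q H : Subgroup S} {zP zQ : S}

theorem inf_eq_bot_of_centres (h2 : IsPGroup 2 S) (hP : CentreIs zP P) (hQ : CentreIs zQ Q)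
    (hne : zP ≠ zQ) (hPH : P ≤ H) (hQH : Q ≤ H) (hPn : ∀ h ∈ H, ∀ n ∈ P, h * n * h⁻¹ ∈ P)
    (hQn : ∀ h ∈ H, ∀ n ∈ Q, h * n * h⁻¹ ∈ Q) : P ⊓ Q = ⊥ := by
  by_contra hb
  obtain ⟨n, hn, hn1, hnc⟩ := exists_fixed_of_normalized h2 (N := P ⊓ Q) (H := H)
    (fun h hh n hn => ⟨hPn h hh n hn.1, hQn h hh n hn.2⟩) hb
  exact hne ((hP.eq_of_comm hn.1 (fun a ha => hnc a (hPH ha)) hn1).symm.trans
    (hQ.eq_of_comm hn.2 (fun a ha => hnc a (hQH ha)) hn1))

omit [Finite S] in
theorem commute_of_disjoint (hd : P ⊓ Q = ⊥) (hPH : P ≤ H) (hQH : Q ≤ H)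
    (hPn : ∀ h ∈ H, ∀ n ∈ P, h * n * h⁻¹ ∈ P) (hQn : ∀ h ∈ H, ∀ n ∈ Q, h * n * h⁻¹ ∈ Q) :
    ∀ a ∈ P, ∀ b ∈ Q, a * b = b * a := by
  intro a ha b hb
  have h1 : a * b * a⁻¹ * b⁻¹ ∈ P ⊓ Q := by
    refine ⟨?_, Q.mul_mem (hQn a (hPH ha) b hb) (Q.inv_mem hb)⟩
    have := P.mul_mem ha (hPn b (hQH hb) a⁻¹ (P.inv_mem ha))
    simpa [mul_assoc] using this
  rw [hd, Subgroup.mem_bot, mul_inv_eq_one, mul_inv_eq_iff_eq_mul] at h1
  exact h1

/-- The product contains its own centralizer. -/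
theorem centralizer_le_sup (h2 : IsPGroup 2 S) (hr : Cfsg.SectionalPRankLE 2 4 S)
    (hP : CentreIs zP P) (hQ : CentreIs zQ Q) (hd : P ⊓ Q = ⊥)
    (hc : ∀ a ∈ P, ∀ b ∈ Q, a * b = b * a) :
    Subgroup.centralizer ((P ⊔ Q : Subgroup S) : Set S) ≤ P ⊔ Q := by
  intro c hcC
  by_contra hcn
  haveI := Fact.mk Nat.prime_two
  obtain ⟨k, hk⟩ := h2 c
  obtain ⟨c, hcC, hcn, hc2⟩ : ∃ d ∈ Subgroup.centralizer ((P ⊔ Q : Subgroup S) : Set S),
      d ∉ P ⊔ Q ∧ d ^ 2 ∈ P ⊔ Q := by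
    induction k generalizing c with
    | zero => simp at hk; exact absurd (hk ▸ (P ⊔ Q).one_mem) hcn
    | succ k ih =>
      by_cases h : c ^ 2 ∈ P ⊔ Q
      · exact ⟨c, hcC, hcn, h⟩
      · exact ih (Subgroup.pow_mem _ hcC 2) h (by rw [← pow_mul, ← pow_succ']; exact hk)
  set Φ := (frattini ↥P).map P.subtype ⊔ (frattini ↥Q).map Q.subtype with hΦ
  set C := Subgroup.zpowers c
  have hsP := frattini_elemSection (p := 2) (h2.to_subgroup P)
  have hsQ := frattini_elemSection (p := 2) (h2.to_subgroup Q)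
  have hsPQ := hsP.sup hsQ hc
  have hCc : ∀ a ∈ P ⊔ Q, ∀ b ∈ C, a * b = b * a := by
    intro a ha b hb
    obtain ⟨n, rfl⟩ := Subgroup.mem_zpowers_iff.mp hb
    exact ((show Commute a c from Subgroup.mem_centralizer_iff.mp hcC a ha).zpow_right n).eq
  have hsC : IsElemSection 2 (Subgroup.zpowers (c ^ 2)) C := by
    refine ⟨Subgroup.zpowers_le.mpr (C.pow_mem (Subgroup.mem_zpowers c) 2), fun a ha b hb => ?_,
      fun a ha => ?_⟩
    · obtain ⟨n, rfl⟩ := Subgroup.mem_zpowers_iff.mp ha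
      obtain ⟨m, rfl⟩ := Subgroup.mem_zpowers_iff.mp hb
      rw [(Commute.zpow_zpow_self c n m).eq, mul_inv_cancel_right, mul_inv_cancel]
      exact Subgroup.one_mem _
    · obtain ⟨n, rfl⟩ := Subgroup.mem_zpowers_iff.mp ha
      refine Subgroup.mem_zpowers_iff.mpr ⟨n, ?_⟩
      rw [← zpow_natCast, ← zpow_natCast, ← zpow_mul, ← zpow_mul, mul_comm]
  have hall := hsPQ.sup hsC hCc
  have hc2Φ : Subgroup.zpowers (c ^ 2) ≤ Φ := by
    rw [Subgroup.zpowers_le]
    rw [← SetLike.mem_coe, Subgroup.coe_mul_of_right_le_normalizer_left P Q ?_] at hc2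
    · obtain ⟨a, ha, b, hb, hab⟩ := hc2
      simp only at hab
      have hcent : ∀ x ∈ P ⊔ Q, x * (a * b) = (a * b) * x := fun x hx => by
        rw [hab]; exact hCc x hx _ (C.pow_mem (Subgroup.mem_zpowers c) 2)
      have haz : a = 1 ∨ a = zP := (hP.central a).mp ⟨ha, fun x hx => by
        have h1 := hcent x (Subgroup.mem_sup_left hx)
        rw [← mul_assoc, mul_assoc a b x, ← hc x hx b hb, ← mul_assoc] at h1
        exact mul_right_cancel h1⟩
      have hbz : b = 1 ∨ b = zQ := (hQ.central b).mp ⟨hb, fun x hx => by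
        have h1 := hcent x (Subgroup.mem_sup_right hx)
        rw [← mul_assoc, ← hc a ha x hx, mul_assoc, mul_assoc] at h1
        exact mul_left_cancel h1⟩
      rw [← hab]
      refine Subgroup.mul_mem_sup ?_ ?_
      · rcases haz with rfl | rfl
        · exact Subgroup.one_mem _
        · exact hP.mem_frattini h2
      · rcases hbz with rfl | rfl
        · exact Subgroup.one_mem _
        · exact hQ.mem_frattini h2
    · intro b hb
      rw [Subgroup.mem_normalizer_iff]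
      intro a
      constructor
      · intro ha; rwa [← hc a ha b hb, mul_inv_cancel_right]
      · intro ha
        have h1 := hc _ ha b hb
        rw [inv_mul_cancel_right, mul_assoc b a b⁻¹] at h1
        rw [mul_assoc, ← mul_left_cancel h1] at ha
        exact ha
  have h1 := hall.relIndex_le hr
  rw [sup_eq_left.mpr hc2Φ] at h1
  rw [← Subgroup.relIndex_mul_relIndex Φ (P ⊔ Q) _ hsPQ.le le_sup_left] at h1
  rw [hΦ, relIndex_sup_of_commute hsP.le hsQ.le hc hd] at h1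
  have h3 : 2 ≤ (P ⊔ Q).relIndex (P ⊔ Q ⊔ C) := by
    have hne : (P ⊔ Q).relIndex (P ⊔ Q ⊔ C) ≠ 1 := fun e =>
      hcn ((Subgroup.relIndex_eq_one.mp e) (Subgroup.mem_sup_right (Subgroup.mem_zpowers c)))
    have hne0 : (P ⊔ Q).relIndex (P ⊔ Q ⊔ C) ≠ 0 := Subgroup.FiniteIndex.index_ne_zero
    omega
  have h4 := two_pow_two_le_relIndex_frattini h2 hP
  have h5 := two_pow_two_le_relIndex_frattini h2 hQ
  have := Nat.mul_le_mul (Nat.mul_le_mul h4 h5) h3
  omega

/-- Sectional ranks of two disjoint commuting subgroups add up. -/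
theorem sectional_le_two (h2 : IsPGroup 2 S) (hr : Cfsg.SectionalPRankLE 2 4 S)
    (hQ : CentreIs zQ Q) (hd : P ⊓ Q = ⊥) (hc : ∀ a ∈ P, ∀ b ∈ Q, a * b = b * a) :
    Cfsg.SectionalPRankLE 2 2 ↥P := by
  haveI := Fact.mk Nat.prime_two
  refine sectionalPRankLE_of_forall fun N H hNH => ?_
  have hQs := frattini_elemSection (p := 2) (h2.to_subgroup Q)
  have hm := hNH.map P.subtype
  have hHP : H.map P.subtype ≤ P := Subgroup.map_subtype_le H
  have h1 := (hm.sup hQs fun a ha b hb => hc a (hHP ha) b hb).relIndex_le hr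
  rw [relIndex_sup_of_commute hm.le hQs.le (fun a ha b hb => hc a (hHP ha) b hb)
    (le_bot_iff.mp ((inf_le_inf_right Q hHP).trans hd.le)),
    Subgroup.relIndex_map_map_of_injective _ _ P.subtype_injective] at h1
  have h2' := two_pow_two_le_relIndex_frattini h2 hQ
  have := Nat.mul_le_mul_left (N.relIndex H) h2'
  omega

end Pair

end Cfsg.Agent.Lib.SectRank
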